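import Cfsg.Agent.H35.KB.Cyc
import Cfsg.Agent.H35.KB.Corr
import Cfsg.Agent.H734.KB.Exp
import Cfsg.Agent.H749.BlockOrth
import Cfsg.Agent.H200.RowOrthA

/-!
# `p ≤ k(B₀)` for orthogonal groups of odd dimension: the abstract form (S4822, helper35)

* `Blk p QB x` : `x` is an isometry of order `p` of the block `QB`, without fixed vectors, with enough isometries
  normalizing `⟨x⟩`, and a similitude with nonsquare factor commuting with `x`;
* `core` : the space `(ι → B) × (B × C)`, `C` a nondegenerate space with a nonsingular vector,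
  `dim (B × C) < 2 c`: `p ≤ k(B₀(P Q))`.
-/

set_option autoImplicit false
set_option linter.unusedSectionVars false


namespace Cfsg.Agent.H35.KB

open Cfsg QuadraticMap Module Cfsg.Agent.LieClassical.OrthCore Cfsg.Agent.LieClassical.OrthTrans
open Cfsg.Agent.ClassicalGeometry.OrthAut1 (P)
open Cfsg.Agent.H160.QSpin
open Cfsg.Agent.H734.KB (crit_exp_quot)

universe u v w

/-- a block: an isometry `x` of order `p` without fixed vectors -/
structure Blk {F : Type u} {B : Type v} [Field F] [AddCommGroup B] [Module F B] (p : ℕ) (QB : QuadraticForm F B)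
    (x : B ≃ₗ[F] B) : Prop where
  nondeg : Nondeg QB
  mem : x ∈ O QB
  pow : x ^ p = 1
  nofix : ∀ v, x v = v → v = 0
  fus : ∀ (i : ℕ) (ψ : B →ₗ[F] B), ψ ≠ 0 → (∀ v, ψ (x v) = (x ^ i) (ψ v)) →
    ∃ t ∈ O QB, t * x * t⁻¹ = x ^ i ∧ ((∃ r ∈ O QB, t = r * r) ∨ LinearEquiv.det t = -1)
  sim : ∃ (b : B ≃ₗ[F] B) (a : F), ¬ IsSquare a ∧ (∀ v, QB (b v) = a * QB v) ∧ b * x = x * b

section pi

variable {F : Type u} {B : Type v} [Field F] [AddCommGroup B] [Module F B] {ι : Type w} [Fintype ι] [DecidableEq ι]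
  (QB : QuadraticForm F B)

/-- the orthogonal sum of copies of a form -/
abbrev piQ (ι : Type w) [Fintype ι] (QB : QuadraticForm F B) : QuadraticForm F (ι → B) := QuadraticMap.pi fun _ => QB

theorem polar_piQ (v w : ι → B) : polar (piQ ι QB) v w = ∑ i, polar QB (v i) (w i) := by
  rw [polar, pi_apply, pi_apply, pi_apply, ← Finset.sum_sub_distrib, ← Finset.sum_sub_distrib]
  rfl

theorem nondeg_piQ {QB : QuadraticForm F B} (h : Nondeg QB) : Nondeg (piQ ι QB) := by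
  intro v hv
  funext i
  apply h
  intro y
  have h1 := hv (Pi.single i y)
  rw [polar_piQ, Finset.sum_eq_single i (fun j _ hj => by rw [Pi.single_eq_of_ne hj, polar_zero_right])
    (fun h => absurd (Finset.mem_univ i) h), Pi.single_eq_same] at h1
  exact h1

/-- the diagonal isometry -/
def dgE (ι : Type w) (x : B ≃ₗ[F] B) : (ι → B) ≃ₗ[F] (ι → B) := LinearEquiv.piCongrRight fun _ => x

theorem dgE_apply (x : B ≃ₗ[F] B) (v : ι → B) (i : ι) : dgE ι x v i = x (v i) := rfl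

theorem dgE_pow (x : B ≃ₗ[F] B) (n : ℕ) : dgE ι x ^ n = dgE ι (x ^ n) := by
  induction n with
  | zero => rfl
  | succ n ih => rw [pow_succ, ih, pow_succ]; rfl

theorem dgE_mem_O {QB : QuadraticForm F B} {x : B ≃ₗ[F] B} (hx : x ∈ O QB) : dgE ι x ∈ O (piQ ι QB) := by
  intro v
  rw [pi_apply, pi_apply]
  exact Finset.sum_congr rfl fun i _ => by rw [dgE_apply, mem_O.1 hx]

end pi

section core

variable {F : Type u} [Field F] {B : Type v} [AddCommGroup B] [Module F B] {C : Type v} [AddCommGroup C] [Module F C]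
  {ι : Type} [Fintype ι] [DecidableEq ι] {QB : QuadraticForm F B} {QC : QuadraticForm F C}

/-- the whole form -/
abbrev QW (ι : Type) [Fintype ι] (QB : QuadraticForm F B) (QC : QuadraticForm F C) :
    QuadraticForm F ((ι → B) × (B × C)) := (piQ ι QB).prod (QB.prod QC)

/-- `z` : the element `x` on all blocks of the first part -/
def zz (ι : Type) (C : Type v) [AddCommGroup C] [Module F C] (x : B ≃ₗ[F] B) :
    ((ι → B) × (B × C)) ≃ₗ[F] ((ι → B) × (B × C)) := pr (dgE ι x) 1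

theorem zz_apply (x : B ≃ₗ[F] B) (v : (ι → B) × (B × C)) : zz ι C x v = (fun i => x (v.1 i), v.2) := rfl

theorem zz_pow (x : B ≃ₗ[F] B) (n : ℕ) : zz ι C x ^ n = zz ι C (x ^ n) := by
  rw [zz, pr_pow, dgE_pow, one_pow]
  rfl

theorem pr_one_comm (x : B ≃ₗ[F] B) (s : (B × C) ≃ₗ[F] (B × C)) : pr 1 s * zz ι C x = zz ι C x * pr 1 s := by
  rw [zz, ← pr_mul, ← pr_mul, one_mul, mul_one, one_mul, mul_one]

theorem zz_mem_O {x : B ≃ₗ[F] B} (hx : x ∈ O QB) : zz ι C x ∈ O (QW ι QB QC) := pr_mem_O (dgE_mem_O hx) (one_mem _)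

/-- an automorphism commuting with `z` preserves `0 × (B × C)` -/
theorem fst_eq_zero {x : B ≃ₗ[F] B} (hx : ∀ v, x v = v → v = 0)
    {g : ((ι → B) × (B × C)) ≃ₗ[F] ((ι → B) × (B × C))} (hg : g * zz ι C x = zz ι C x * g) (w : B × C) :
    (g (0, w)).1 = 0 := by
  funext i
  apply hx
  have h1 := congrArg (fun f : ((ι → B) × (B × C)) ≃ₗ[F] ((ι → B) × (B × C)) => f (0, w)) hg
  have h2 : g (zz ι C x (0, w)) = zz ι C x (g (0, w)) := h1
  have h3 : zz ι C x (0, w) = ((0 : ι → B), w) := by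
    rw [zz_apply]
    ext i
    · exact map_zero x
    · rfl
    · rfl
  rw [h3, zz_apply] at h2
  have h4 := congrArg (fun v : (ι → B) × (B × C) => v.1 i) h2
  exact h4.symm

theorem apply_eq {x : B ≃ₗ[F] B} (hx : ∀ v, x v = v → v = 0)
    {g : ((ι → B) × (B × C)) ≃ₗ[F] ((ι → B) × (B × C))} (hg : g * zz ι C x = zz ι C x * g) (w : B × C) :
    g (0, w) = (0, (g (0, w)).2) := Prod.ext (fst_eq_zero hx hg w) rfl

/-- the restriction of an automorphism commuting with `z` -/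
def resW {x : B ≃ₗ[F] B} (hx : ∀ v, x v = v → v = 0)
    (g : ((ι → B) × (B × C)) ≃ₗ[F] ((ι → B) × (B × C))) (hg : g * zz ι C x = zz ι C x * g) :
    (B × C) ≃ₗ[F] (B × C) where
  toFun w := (g (0, w)).2
  invFun w := (g⁻¹ (0, w)).2
  map_add' w w' := by
    have h1 : ((0 : ι → B), w + w') = (0, w) + (0, w') := Prod.ext (add_zero 0).symm rfl
    rw [h1, map_add]
    rfl
  map_smul' c w := by
    have h1 : ((0 : ι → B), c • w) = c • ((0 : ι → B), w) := Prod.ext (smul_zero c).symm rfl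
    rw [h1, map_smul]
    rfl
  left_inv w := by
    change (g⁻¹ (0, (g (0, w)).2)).2 = w
    rw [← apply_eq hx hg w]
    change (g.symm (g (0, w))).2 = w
    rw [LinearEquiv.symm_apply_apply]
  right_inv w := by
    have hg' : g⁻¹ * zz ι C x = zz ι C x * g⁻¹ := by
      rw [inv_mul_eq_iff_eq_mul, ← mul_assoc, hg, mul_inv_cancel_right]
    change (g (0, (g⁻¹ (0, w)).2)).2 = w
    rw [← apply_eq hx hg' w]
    change (g (g.symm (0, w))).2 = w
    rw [LinearEquiv.apply_symm_apply]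

theorem resW_apply {x : B ≃ₗ[F] B} (hx : ∀ v, x v = v → v = 0)
    (g : ((ι → B) × (B × C)) ≃ₗ[F] ((ι → B) × (B × C))) (hg : g * zz ι C x = zz ι C x * g) (w : B × C) :
    resW hx g hg w = (g (0, w)).2 := rfl

theorem resW_mem_O {x : B ≃ₗ[F] B} (hx : ∀ v, x v = v → v = 0)
    {g : ((ι → B) × (B × C)) ≃ₗ[F] ((ι → B) × (B × C))} (hg : g * zz ι C x = zz ι C x * g)
    (hgO : g ∈ O (QW ι QB QC)) : resW hx g hg ∈ O (QB.prod QC) := by
  intro w
  have h1 := hgO (0, w)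
  have h2 : ∀ w, (QW ι QB QC) (0, w) = (QB.prod QC) w := by
    intro w
    change (piQ ι QB) 0 + (QB.prod QC) w = _
    rw [QuadraticMap.map_zero, zero_add]
  rw [apply_eq hx hg w, h2, h2] at h1
  exact h1

variable (QB QC) in
/-- the restriction homomorphism -/
def resH {x : B ≃ₗ[F] B} (hx : ∀ v, x v = v → v = 0) (hz : zz ι C x ∈ E (QW ι QB QC)) :
    ↥(Subgroup.centralizer ({(⟨zz ι C x, hz⟩ : ↥(E (QW ι QB QC)))} : Set ↥(E (QW ι QB QC)))) →* ↥(O (QB.prod QC)) where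
  toFun g := ⟨resW hx (g.1.1 : ((ι → B) × (B × C)) ≃ₗ[F] ((ι → B) × (B × C)))
    (congrArg Subtype.val (Subgroup.mem_centralizer_singleton_iff.1 g.2)), resW_mem_O hx _ (E_le_O g.1.2)⟩
  map_one' := rfl
  map_mul' g h := by
    apply Subtype.ext
    ext1 w
    have h1 := apply_eq hx (congrArg Subtype.val (Subgroup.mem_centralizer_singleton_iff.1 h.2)) w
    change (g.1.1 (h.1.1 (0, w))).2 = (g.1.1 (0, (h.1.1 (0, w)).2)).2
    rw [← h1]

/-- fusion: a conjugating element gives a semilinear map of the block -/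
theorem exists_psi [Nonempty ι] [FiniteDimensional F B] [Nontrivial B] {x : B ≃ₗ[F] B} (hx : ∀ v, x v = v → v = 0)
    {g : ((ι → B) × (B × C)) ≃ₗ[F] ((ι → B) × (B × C))} {i : ℕ} (hg : g * zz ι C x = zz ι C x ^ i * g) :
    ∃ ψ : B →ₗ[F] B, ψ ≠ 0 ∧ ∀ v, ψ (x v) = (x ^ i) (ψ v) := by
  obtain ⟨j⟩ := ‹Nonempty ι›
  have h1 : ∀ v, g (zz ι C x v) = zz ι C (x ^ i) (g v) := by
    intro v
    rw [← zz_pow]
    exact congrArg (fun f : ((ι → B) × (B × C)) ≃ₗ[F] ((ι → B) × (B × C)) => f v) hg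
  let inj : B →ₗ[F] ((ι → B) × (B × C)) := (LinearMap.inl F (ι → B) (B × C)).comp (LinearMap.single F (fun _ : ι => B) j)
  have hinj : ∀ e, inj e = (Pi.single j e, 0) := fun e => rfl
  have h2 : ∀ e, zz ι C x (inj e) = inj (x e) := by
    intro e
    rw [hinj, hinj, zz_apply]
    refine Prod.ext ?_ rfl
    funext k
    by_cases hk : k = j
    · subst hk
      simp
    · simp [Pi.single_eq_of_ne hk]
  let ψ : ι → B →ₗ[F] B := fun k => (LinearMap.proj k : (ι → B) →ₗ[F] B).comp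
    ((LinearMap.fst F (ι → B) (B × C)).comp (g.toLinearMap.comp inj))
  have hψ : ∀ k e, ψ k e = (g (inj e)).1 k := fun k e => rfl
  have h3 : ∀ k e, ψ k (x e) = (x ^ i) (ψ k e) := by
    intro k e
    rw [hψ, hψ, ← h2, h1]
    rfl
  by_contra hno
  push Not at hno
  have h4 : ∀ k, ψ k = 0 := by
    intro k
    by_contra hk
    obtain ⟨v, hv⟩ := hno (ψ k) hk
    exact hv (h3 k v)
  have h5 : ∀ e, (g (inj e)).1 = 0 := by
    intro e
    funext k
    rw [← hψ, h4]
    rfl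
  have h6 : ∀ e, (g (inj (x e))).2 = (g (inj e)).2 := by
    intro e
    rw [← h2, h1]
    rfl
  have h7 : ∀ e, g (inj (x e - e)) = 0 := by
    intro e
    rw [map_sub, map_sub]
    refine Prod.ext ?_ ?_
    · rw [Prod.fst_sub, h5, h5, sub_zero]
      rfl
    · rw [Prod.snd_sub, h6, sub_self]
      rfl
  obtain ⟨e, he⟩ := _root_.exists_ne (0 : B)
  apply he
  apply hx
  have h8 : inj (x e - e) = 0 := g.map_eq_zero_iff.1 (h7 e)
  rw [hinj] at h8
  have h9 := congrArg (fun v : (ι → B) × (B × C) => v.1 j) h8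
  have h10 : (Pi.single j (x e - e) : ι → B) j = 0 := h9
  rw [Pi.single_eq_same] at h10
  exact sub_eq_zero.1 h10

variable {p : ℕ} [Fact p.Prime] {M : Ideal AlgInt}

/-- **the core** -/
theorem core [Finite F] [Finite B] [Finite C] [Nonempty ι] [Nontrivial B] [FiniteDimensional F B]
    [FiniteDimensional F C] (hM : IsPModular p M) (hp2 : p ≠ 2) (h2 : (2 : F) ≠ 0) {x : B ≃ₗ[F] B} (hB : Blk p QB x)
    (hC : Nondeg QC) {v₀ : C} (hv₀ : QC v₀ ≠ 0) (hG : Good (QW ι QB QC))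
    (hcyc : ∀ R : Subgroup ↥(O (QB.prod QC)), IsPGroup p R → IsCyclic R) :
    p ≤ Nat.card (principalBlock M (P (QW ι QB QC))) := by
  have hp : p.Prime := Fact.out
  have hfinE : Finite ↥(E (QW ι QB QC)) := Cfsg.Agent.H200.RowOrth.finite_E
  have hzz : zz ι C x ^ p = 1 := by
    rw [zz_pow, hB.pow]
    rfl
  have hz : zz ι C x ∈ E (QW ι QB QC) :=
    Cfsg.Agent.H749.mem_E_of_pEl hG hp2 (zz_mem_O hB.mem) ⟨1, by rw [pow_one]; exact hzz⟩
  obtain ⟨e, he⟩ := _root_.exists_ne (0 : B)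
  have hxe : x e ≠ e := fun h => he (hB.nofix e h)
  have hzo : orderOf (⟨zz ι C x, hz⟩ : ↥(E (QW ι QB QC))) = p := by
    refine orderOf_eq_prime (Subtype.ext hzz) fun h => ?_
    have h1 := congrArg (fun f : ↥(E (QW ι QB QC)) =>
      (f.1 : ((ι → B) × (B × C)) ≃ₗ[F] ((ι → B) × (B × C))) (fun _ => e, 0)) h
    have h3 := congrArg (fun v : (ι → B) × (B × C) => v.1 (Classical.arbitrary ι)) h1
    exact hxe h3
  have hxp : (pr x 1 : (B × C) ≃ₗ[F] (B × C)) ^ p = 1 := by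
    rw [pr_pow, hB.pow, one_pow]
    rfl
  have hxO : (pr x 1 : (B × C) ≃ₗ[F] (B × C)) ∈ O (QB.prod QC) := pr_mem_O hB.mem (one_mem _)
  have huO : (pr 1 (pr x 1) : ((ι → B) × (B × C)) ≃ₗ[F] ((ι → B) × (B × C))) ∈ O (QW ι QB QC) :=
    pr_mem_O (one_mem _) hxO
  have hu : (pr 1 (pr x 1) : ((ι → B) × (B × C)) ≃ₗ[F] ((ι → B) × (B × C))) ∈ E (QW ι QB QC) :=
    Cfsg.Agent.H749.mem_E_of_pEl hG hp2 huO ⟨1, by rw [pow_one, pr_pow, hxp, one_pow]; rfl⟩
  -- elements of the range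
  have hrange : ∀ s : (B × C) ≃ₗ[F] (B × C), ∀ hs : s ∈ O (QB.prod QC),
      (pr 1 s : ((ι → B) × (B × C)) ≃ₗ[F] ((ι → B) × (B × C))) ∈ E (QW ι QB QC) →
      (⟨s, hs⟩ : ↥(O (QB.prod QC))) ∈ (resH QB QC hB.nofix hz).range := by
    intro s hs hsE
    refine ⟨⟨⟨pr 1 s, hsE⟩, Subgroup.mem_centralizer_singleton_iff.2 (Subtype.ext (pr_one_comm x s))⟩, ?_⟩
    exact Subtype.ext (LinearEquiv.ext fun w => rfl)
  refine crit_exp_quot hM (Subgroup.center ↥(E (QW ι QB QC))) (Cfsg.Agent.H200.RowOrth.not_dvd_center hG hp2) hzo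
    (resH QB QC hB.nofix hz) hcyc (hrange _ hxO hu) ?_ fun i hi => ?_
  · refine orderOf_eq_prime (Subtype.ext hxp) fun h => ?_
    have h1 := congrArg (fun f : ↥(O (QB.prod QC)) => (f.1 : (B × C) ≃ₗ[F] (B × C)) (e, 0)) h
    have h3 := congrArg (fun v : B × C => v.1) h1
    exact hxe h3
  · obtain ⟨g, hg⟩ := isConj_iff.1 hi
    have hg' : g.1 * zz ι C x = zz ι C x ^ i * g.1 := by
      have h1 := congrArg Subtype.val (mul_inv_eq_iff_eq_mul.1 hg)
      exact h1
    obtain ⟨ψ, hψ, hψx⟩ := exists_psi hB.nofix hg'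
    obtain ⟨t, ht, htx, h⟩ := hB.fus i ψ hψ hψx
    -- the final step
    have fin : ∀ (t : B ≃ₗ[F] B) (ht : t ∈ O QB) (r : C ≃ₗ[F] C) (hr : r ∈ O QC), t * x * t⁻¹ = x ^ i →
        (pr 1 (pr t r) : ((ι → B) × (B × C)) ≃ₗ[F] ((ι → B) × (B × C))) ∈ E (QW ι QB QC) →
        ∃ g ∈ (resH QB QC hB.nofix hz).range, g * (⟨pr x 1, hxO⟩ : ↥(O (QB.prod QC))) * g⁻¹ = ⟨pr x 1, hxO⟩ ^ i := by
      intro t ht r hr htx hE
      refine ⟨⟨pr t r, pr_mem_O ht hr⟩, hrange _ _ hE, ?_⟩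
      apply Subtype.ext
      change pr t r * pr x 1 * (pr t r)⁻¹ = pr x 1 ^ i
      rw [mul_inv_eq_iff_eq_mul, pr_pow, ← pr_mul, ← pr_mul, one_pow, mul_one, one_mul, ← htx, inv_mul_cancel_right]
    rcases h with ⟨r, hr, rfl⟩ | hdet
    · refine fin (r * r) ht 1 (one_mem _) htx ?_
      have h3 := Cfsg.Agent.H749.sq_mem_E hG (g := pr 1 (pr r 1)) (pr_mem_O (one_mem _) (pr_mem_O hr (one_mem _)))
      rw [← pr_mul, ← pr_mul, one_mul, one_mul] at h3
      exact h3
    · obtain ⟨b, a, ha, hb, hbx⟩ := hB.sim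
      have ha0 : a ≠ 0 := by
        rintro rfl
        exact ha ⟨0, by simp⟩
      have ht' := conj_mem_O_of_sim ha0 hb ht
      have hdet' : LinearEquiv.det (b * t * b⁻¹) = -1 := by
        rw [map_mul, map_mul, map_inv, hdet, mul_comm (LinearEquiv.det b), mul_inv_cancel_right]
      have hconj : b * t * b⁻¹ * x * (b * t * b⁻¹)⁻¹ = x ^ i := by
        have hc : Commute b x := hbx
        have e1 : b⁻¹ * x = x * b⁻¹ := (hc.inv_left).eq
        calc b * t * b⁻¹ * x * (b * t * b⁻¹)⁻¹ = b * t * (b⁻¹ * x) * (b * t * b⁻¹)⁻¹ := by group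
          _ = b * (t * x * t⁻¹) * b⁻¹ := by rw [e1]; group
          _ = x ^ i := by rw [htx, (hc.pow_right i).eq, mul_inv_cancel_right]
      have hr₀ : refl QC v₀ hv₀ ∈ O QC := refl_mem_O hv₀
      have hm1 : (-1 : Fˣ) ≠ 1 := by
        intro h
        apply h2
        have h3 := congrArg (Units.val) h
        rw [Units.val_neg, Units.val_one] at h3
        linear_combination -h3
      -- choose the right one
      have key : ∀ t : B ≃ₗ[F] B, ∀ ht : t ∈ O QB, LinearEquiv.det t = -1 →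
          spin QB ⟨t, ht⟩ = spin QC ⟨refl QC v₀ hv₀, hr₀⟩ →
          (pr 1 (pr t (refl QC v₀ hv₀)) : ((ι → B) × (B × C)) ≃ₗ[F] ((ι → B) × (B × C))) ∈ E (QW ι QB QC) := by
        intro t ht hd hs
        have hW := nondeg_prod hB.nondeg hC
        refine mem_E_of hG h2 (pr_mem_O (one_mem _) (pr_mem_O ht hr₀)) ?_ ?_
        · rw [det_pr, det_pr, map_one, one_mul, hd, det_refl, neg_mul_neg, one_mul]
        · rw [spin_pr h2 (nondeg_piQ hB.nondeg) hW (one_mem _) (pr_mem_O ht hr₀), spin_pr h2 hB.nondeg hC ht hr₀, hs,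
            units_sq, mul_one]
          exact map_one _
      rcases spin_conj h2 hB.nondeg ha hb ht ht' with ⟨h3, -⟩ | ⟨-, h3⟩
      · exact absurd (hdet.symm.trans h3) hm1
      · by_cases h4 : spin QB ⟨t, ht⟩ = spin QC ⟨refl QC v₀ hv₀, hr₀⟩
        · exact fin t ht _ hr₀ htx (key t ht hdet h4)
        · refine fin _ ht' _ hr₀ hconj (key _ ht' hdet' ?_)
          rw [h3]
          rcases Int.units_eq_one_or (spin QB ⟨t, ht⟩) with h5 | h5 <;>
            rcases Int.units_eq_one_or (spin QC ⟨refl QC v₀ hv₀, hr₀⟩) with h6 | h6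
          · exact absurd (h5.trans h6.symm) h4
          · rw [h5, h6]
          · rw [h5, h6, neg_neg]
          · exact absurd (h5.trans h6.symm) h4

end core

end Cfsg.Agent.H35.KB
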