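import Cfsg.Agent.H862.T5.OBlock
import Cfsg.Agent.S0126

/-!
# `p`-subgroups of orthogonal groups of small degree (S4822, helper35)

`c` the dimension of a block: the order `d` of `q` modulo `p` if `d` is even, `2 d` if `d` is odd.

* `fx_le_fx` : `dim V < 2 c`, `x` and `y` commuting isometries of order `p` : every vector fixed by `x` is fixed by `y`;
* `isCyclic_isom` : `dim V < 2 c` : the `p`-groups of isometries are cyclic.
-/

set_option autoImplicit false
set_option linter.unusedSectionVars false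

namespace Cfsg.Agent.H35.KB

open QuadraticMap Module Cfsg.Agent.LieClassical.OrthCore Cfsg.Agent.LieClassical.OrthTrans
open Cfsg.Agent.H862.T5.OBase Cfsg.Agent.H862.T5.OLinFour Cfsg.Agent.H862.T5.OBlock
open Cfsg.Agent.H951

section sums

variable {F V : Type*} [Field F] [AddCommGroup V] [Module F V]

/-- commuting linear maps `g`, `h` of order dividing `p`: if the fixed vectors of `h` and of all `g h ^ k` lie in `X`,
then `X` is everything -/
theorem mem_of_fix {p : ℕ} (hp : p.Prime) (hpF : (p : F) ≠ 0) {g h : V ≃ₗ[F] V} (hg : g ^ p = 1) (hh : h ^ p = 1)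
    (hc : g * h = h * g) (X : Submodule F V) (h1 : ∀ v, h v = v → v ∈ X)
    (h2 : ∀ k < p, ∀ v, (g * h ^ k) v = v → v ∈ X) (v : V) : v ∈ X := by
  have hcomm : Commute g h := hc
  -- sum of the powers
  have key : ∀ f : V ≃ₗ[F] V, f ^ p = 1 → ∀ v, f (∑ i ∈ Finset.range p, (f ^ i) v) = ∑ i ∈ Finset.range p, (f ^ i) v := by
    intro f hf v
    rw [map_sum]
    have h3 : ∀ i, f ((f ^ i) v) = (f ^ (i + 1)) v := fun i => by rw [pow_succ', LinearEquiv.mul_apply]
    simp only [h3]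
    have h4 := Finset.sum_range_succ' (fun i => (f ^ i) v) p
    have h5 := Finset.sum_range_succ (fun i => (f ^ i) v) p
    rw [h5, hf, pow_zero] at h4
    exact (add_right_cancel h4).symm
  have s1 : ∀ k < p, ∑ i ∈ Finset.range p, ((g * h ^ k) ^ i) v ∈ X := by
    intro k hk
    apply h2 k hk
    apply key
    rw [(hcomm.pow_right k).mul_pow, hg, ← pow_mul, mul_comm, pow_mul, hh, one_pow, one_mul]
  have s2 : ∀ i, 0 < i → i < p → h (∑ k ∈ Finset.range p, ((h ^ i) ^ k) v) = ∑ k ∈ Finset.range p, ((h ^ i) ^ k) v := by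
    intro i hi0 hip
    have h3 := key (h ^ i) (by rw [← pow_mul, mul_comm, pow_mul, hh, one_pow]) v
    -- `h` is a power of `h ^ i`
    have hco : Nat.Coprime (orderOf h) i :=
      Nat.Coprime.coprime_dvd_left (orderOf_dvd_of_pow_eq_one hh) (Nat.coprime_of_lt_prime hi0.ne' hip hp)
    obtain ⟨m, hm⟩ := exists_pow_eq_self_of_coprime hco.symm
    have h4 : ∀ n : ℕ, ((h ^ i) ^ n) (∑ k ∈ Finset.range p, ((h ^ i) ^ k) v) = ∑ k ∈ Finset.range p, ((h ^ i) ^ k) v := by
      intro n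
      induction n with
      | zero => rfl
      | succ n ih => rw [pow_succ, LinearEquiv.mul_apply, h3, ih]
    have h5 := h4 m
    rwa [hm] at h5
  have s3 : ∑ k ∈ Finset.range p, ∑ i ∈ Finset.range p, ((g * h ^ k) ^ i) v ∈ X :=
    Submodule.sum_mem _ fun k hk => s1 k (Finset.mem_range.1 hk)
  rw [Finset.sum_comm] at s3
  have s4 : ∀ i ∈ Finset.range p, i ≠ 0 → ∑ k ∈ Finset.range p, ((g * h ^ k) ^ i) v ∈ X := by
    intro i hi hi0
    have h3 : ∀ k, ((g * h ^ k) ^ i) v = (g ^ i) (((h ^ i) ^ k) v) := by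
      intro k
      rw [(hcomm.pow_right k).mul_pow, LinearEquiv.mul_apply, ← pow_mul, ← pow_mul, mul_comm k i]
    simp only [h3]
    rw [← map_sum]
    apply h1
    rw [← LinearEquiv.mul_apply, (hcomm.symm.pow_right i).eq, LinearEquiv.mul_apply,
      s2 i (Nat.pos_of_ne_zero hi0) (Finset.mem_range.1 hi)]
  have s5 : ∑ k ∈ Finset.range p, ((g * h ^ k) ^ 0) v ∈ X := by
    have h3 := Finset.add_sum_erase (Finset.range p) (fun i => ∑ k ∈ Finset.range p, ((g * h ^ k) ^ i) v)
      (Finset.mem_range.2 hp.pos)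
    have h4 : ∑ i ∈ (Finset.range p).erase 0, ∑ k ∈ Finset.range p, ((g * h ^ k) ^ i) v ∈ X :=
      Submodule.sum_mem _ fun i hi => s4 i (Finset.mem_of_mem_erase hi) (Finset.ne_of_mem_erase hi)
    have h5 := X.sub_mem s3 h4
    rw [← h3, add_sub_cancel_right] at h5
    exact h5
  simp only [pow_zero] at s5
  rw [Finset.sum_const, Finset.card_range] at s5
  have s6 : (p : F) • v ∈ X := by
    rw [Nat.cast_smul_eq_nsmul]
    exact s5
  exact (X.smul_mem_iff hpF).1 s6

end sums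

section cyc

variable {F V : Type*} [Field F] [AddCommGroup V] [Module F V] {Q : QuadraticForm F V}

theorem finrank_cm_ge [Fintype F] [FiniteDimensional F V] (hQ : Nondeg Q) {g : V ≃ₗ[F] V} (hg : g ∈ O Q) {p : ℕ}
    [hp : Fact p.Prime] (hp2 : p ≠ 2) (hpF : (p : F) ≠ 0) (hgp : g ^ p = 1) (hg1 : g ≠ 1) {c : ℕ}
    (hc : c = if Even (orderOf (Fintype.card F : ZMod p)) then orderOf (Fintype.card F : ZMod p) else
      2 * orderOf (Fintype.card F : ZMod p)) : c ≤ finrank F (cm (en g)) := by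
  have hB := frm_polar Q
  have hxr := en_pow_one hgp
  have hcmn : Nd (BB Q) (cm (en g)) := (isom_en hg).nd_cm hB hpF hxr (nd_top hQ)
  have h1 := dvd_finrank hg hp2 hpF hgp hc inv_cm hcmn le_rfl
  have hcm0 : cm (en g) ≠ ⊥ := by
    intro h
    apply hg1
    ext1 v
    have h1 : g v - v ∈ cm (en g) := mem_cm.2 ⟨v, rfl⟩
    rw [h, Submodule.mem_bot] at h1
    exact sub_eq_zero.1 h1
  have h2 : 0 < finrank F (cm (en g)) := by
    rw [Nat.pos_iff_ne_zero]
    intro h
    exact hcm0 (Submodule.finrank_eq_zero.1 h)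
  exact Nat.le_of_dvd h2 h1

/-- **every vector fixed by `x` is fixed by `y`** -/
theorem fx_le_fx [Fintype F] [FiniteDimensional F V] (hQ : Nondeg Q) {x y : V ≃ₗ[F] V} (hx : x ∈ O Q) (hy : y ∈ O Q)
    {p : ℕ} [hp : Fact p.Prime] (hp2 : p ≠ 2) (hpF : (p : F) ≠ 0) (hxp : x ^ p = 1) (hx1 : x ≠ 1) (hyp : y ^ p = 1)
    (hxy : y * x = x * y) {c : ℕ}
    (hc : c = if Even (orderOf (Fintype.card F : ZMod p)) then orderOf (Fintype.card F : ZMod p) else
      2 * orderOf (Fintype.card F : ZMod p)) (hd : finrank F V < 2 * c) : fx (en x) ≤ fx (en y) := by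
  have hB := frm_polar Q
  have h1 := finrank_cm_ge hQ hx hp2 hpF hxp hx1 hc
  have h2 := finrank_fx_cm hpF (en_pow_one hxp)
  have hU : Inv (en y) (fx (en x)) := by
    intro v hv
    rw [mem_fx] at hv ⊢
    change x (y v) = y v
    rw [← LinearEquiv.mul_apply, ← hxy, LinearEquiv.mul_apply]
    exact congrArg _ hv
  have hN : Nd (BB Q) (fx (en x)) := (isom_en hx).nd_fx hB hpF (en_pow_one hxp) (nd_top hQ)
  have hN' : Nd (BB Q) (fx (en x) ⊓ cm (en y)) := (isom_en hy).nd_inf_cm hB hpF (en_pow_one hyp) hU hN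
  have h3 := dvd_finrank hy hp2 hpF hyp hc (hU.inf inv_cm) hN' inf_le_right
  have h4 : finrank F ↥(fx (en x) ⊓ cm (en y)) ≤ finrank F ↥(fx (en x)) := Submodule.finrank_mono inf_le_left
  have h5 : fx (en x) ⊓ cm (en y) = ⊥ := by
    rw [← Submodule.finrank_eq_zero (R := F)]
    exact Nat.eq_zero_of_dvd_of_lt h3 (by omega)
  have h6 := inf_fx_sup_inf_cm hpF (en_pow_one hyp) hU
  rw [h5, sup_bot_eq] at h6
  rw [← h6]
  exact inf_le_right

/-- **the `p`-groups of isometries of a space of dimension less than `2 c` are cyclic** -/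
theorem isCyclic_isom [Fintype F] [FiniteDimensional F V] (hQ : Nondeg Q) {p : ℕ} [hp : Fact p.Prime] (hp2 : p ≠ 2)
    (hpF : (p : F) ≠ 0) {c : ℕ}
    (hc : c = if Even (orderOf (Fintype.card F : ZMod p)) then orderOf (Fintype.card F : ZMod p) else
      2 * orderOf (Fintype.card F : ZMod p)) (hd : finrank F V < 2 * c) {Γ : Type*} [Group Γ] [Finite Γ]
    (hΓ : IsPGroup p Γ) (ρ : Γ →* (V ≃ₗ[F] V)) (hρ : Function.Injective ρ) (hO : ∀ γ, ρ γ ∈ O Q) : IsCyclic Γ := by
  by_contra hnc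
  obtain ⟨A, -, ⟨hAc, hAp⟩, hAcard⟩ := Cfsg.Agent.S0126.result hp2 hΓ hnc
  -- two independent elements
  have hA1 : Nat.card A ≠ 1 := by
    rw [hAcard]
    have := hp.out.one_lt
    intro h
    rw [Nat.pow_eq_one] at h
    omega
  obtain ⟨a, ha⟩ : ∃ a : A, a ≠ 1 := by
    by_contra hno
    push Not at hno
    apply hA1
    rw [Nat.card_eq_one_iff_unique]
    exact ⟨⟨fun x y => by rw [hno x, hno y]⟩, ⟨1⟩⟩
  have hap : a ^ p = 1 := Subtype.ext (hAp a a.2)
  have hao : orderOf a = p := orderOf_eq_prime hap ha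
  obtain ⟨b, hb⟩ : ∃ b : A, b ∉ Subgroup.zpowers a := by
    by_contra hno
    push Not at hno
    have h1 : Subgroup.zpowers a = ⊤ := by
      rw [eq_top_iff]
      exact fun x _ => hno x
    have h2 : Nat.card (Subgroup.zpowers a) = p := by rw [Nat.card_zpowers, hao]
    rw [h1, Subgroup.card_top, hAcard] at h2
    have := hp.out.one_lt
    nlinarith
  have hbp : b ^ p = 1 := Subtype.ext (hAp b b.2)
  have hab : Commute a b := hAc.is_comm.comm a b
  let ρA : A →* (V ≃ₗ[F] V) := ρ.comp A.subtype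
  have hρA : Function.Injective ρA := hρ.comp Subtype.val_injective
  have hOA : ∀ x, ρA x ∈ O Q := fun x => hO _
  have hpA : ∀ x : A, x ^ p = 1 → ρA x ^ p = 1 := fun x hx => by rw [← map_pow, hx, map_one]
  have hcA : ∀ x y : A, ρA x * ρA y = ρA y * ρA x := fun x y => by
    rw [← map_mul, ← map_mul]
    exact congrArg ρA (hAc.is_comm.comm x y)
  have hfx : ∀ x y : A, x ^ p = 1 → x ≠ 1 → y ^ p = 1 → fx (en (ρA x)) ≤ fx (en (ρA y)) := fun x y hx hx1 hy =>
    fx_le_fx hQ (hOA x) (hOA y) hp2 hpF (hpA x hx) (fun h => hx1 (hρA (h.trans (map_one ρA).symm))) (hpA y hy)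
      (hcA y x) hc hd
  have hak : ∀ k : ℕ, b * a ^ k ≠ 1 := by
    intro k h
    apply hb
    rw [mul_eq_one_iff_eq_inv] at h
    rw [h]
    exact Subgroup.inv_mem _ (Subgroup.pow_mem _ (Subgroup.mem_zpowers a) k)
  have hakp : ∀ k : ℕ, (b * a ^ k) ^ p = 1 := by
    intro k
    rw [((hab.symm).pow_right k).mul_pow, hbp, ← pow_mul, mul_comm, pow_mul, hap, one_pow, one_mul]
  have hall : ∀ v : V, v ∈ fx (en (ρA a)) := fun v =>
    mem_of_fix hp.out hpF (hpA b hbp) (hpA a hap) (hcA b a) _ (fun v hv => mem_fx.2 hv) (fun k _ v hv => by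
      refine hfx (b * a ^ k) a (hakp k) (hak k) hap (mem_fx.2 ?_)
      change ρA (b * a ^ k) v = v
      rw [map_mul, map_pow]
      exact hv) v
  apply ha
  apply hρA
  rw [map_one]
  ext1 v
  exact mem_fx.1 (hall v)

end cyc

end Cfsg.Agent.H35.KB
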