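import Cfsg.Agent.H35.KB.Core
import Cfsg.Agent.H734.KB.Blk
import Cfsg.Agent.H749.HermBlock
import Cfsg.Agent.H749.PlaneBlock

/-!
# The blocks (S4822, helper35)

`F` a finite field of odd characteristic, `p` an odd prime different from it, `d` the order of `|F|` modulo `p`.

* `exists_frob` : the Frobenius automorphism, its powers and its determinant;
* `exists_blk_minus` : `d = 2 m` : a block of dimension `2 m`;
* `exists_blk_plus` : `d` odd : a block of dimension `2 d`.
-/

set_option autoImplicit false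
set_option linter.unusedSectionVars false

namespace Cfsg.Agent.H35.KB

open Cfsg QuadraticMap Module Cfsg.Agent.LieClassical.OrthCore Cfsg.Agent.LieClassical.OrthTrans
open Cfsg.Agent.H160.QSpin
open Cfsg.Agent.H734.KB (conjRoot_of_semi mulE)
open Cfsg.Agent.H749 (exists_pow_eq trace_nondeg)

universe u v w

section frob

variable (F : Type u) [Field F] [Finite F] (L : Type v) [Field L] [Algebra F L] [Finite L]

/-- **the Frobenius automorphism** -/
theorem exists_frob : ∃ φ : L ≃ₐ[F] L, (∀ y, φ y = y ^ Nat.card F) ∧ φ ^ finrank F L = 1 ∧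
    (∀ τ : L ≃ₐ[F] L, ∃ k : ℕ, τ = φ ^ k) ∧ LinearEquiv.det φ.toLinearEquiv = (-1) ^ (finrank F L + 1) := by
  classical
  let _ : Fintype F := Fintype.ofFinite F
  have hfd : FiniteDimensional F L := Module.Finite.of_finite
  refine ⟨FiniteField.frobeniusAlgEquivOfAlgebraic F L, fun y => ?_, ?_, fun τ => ?_, ?_⟩
  · rw [Nat.card_eq_fintype_card]
    rfl
  · rw [← FiniteField.orderOf_frobeniusAlgEquivOfAlgebraic, pow_orderOf_eq_one]
  · obtain ⟨k, hk⟩ := (FiniteField.bijective_frobeniusAlgEquivOfAlgebraic_pow F L).2 τ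
    exact ⟨k, hk.symm⟩
  · apply Units.ext
    rw [LinearEquiv.coe_det]
    have h1 : ((FiniteField.frobeniusAlgEquivOfAlgebraic F L).toLinearEquiv : L →ₗ[F] L) =
        (FiniteField.frobeniusAlgHom F L).toLinearMap := rfl
    have h2 := FiniteField.minpoly_frobeniusAlgHom F L
    have hpos : 0 < finrank F L := Module.finrank_pos
    have h3 : (FiniteField.frobeniusAlgHom F L).toLinearMap.charpoly = Polynomial.X ^ finrank F L - 1 := by
      rw [← h2]
      refine Polynomial.eq_of_monic_of_dvd_of_natDegree_le (minpoly.monic (LinearMap.isIntegral _))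
        (LinearMap.charpoly_monic _) (LinearMap.minpoly_dvd_charpoly _) ?_
      rw [LinearMap.charpoly_natDegree, h2]
      rw [show (Polynomial.X ^ finrank F L - 1 : Polynomial F) = Polynomial.X ^ finrank F L - Polynomial.C 1 by
        rw [map_one], Polynomial.natDegree_X_pow_sub_C]
    rw [h1, LinearMap.det_eq_sign_charpoly_coeff, h3, Polynomial.coeff_sub, Polynomial.coeff_X_pow,
      if_neg hpos.ne, Polynomial.coeff_one_zero, zero_sub, Units.val_pow_eq_pow_val, Units.val_neg, Units.val_one,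
      pow_succ]

end frob

section minus

variable {F : Type u} [Field F] [Finite F] {L : Type v} [Field L] [Algebra F L] [Finite L]

theorem trace_alg (τ : L ≃ₐ[F] L) (y : L) : Algebra.trace F L (τ y) = Algebra.trace F L y :=
  Algebra.trace_eq_of_algEquiv τ y

/-- the form `Tr (y (σ y))` -/
noncomputable def trQ (σ : L ≃ₐ[F] L) : QuadraticForm F L :=
  LinearMap.BilinMap.toQuadraticMap (LinearMap.mk₂ F (fun u v : L => Algebra.trace F L (u * σ v))
    (fun u u' v => by rw [add_mul, map_add])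
    (fun c u v => by rw [smul_mul_assoc, map_smul])
    (fun u v v' => by rw [map_add, mul_add, map_add])
    (fun c u v => by rw [map_smul, mul_smul_comm, map_smul]))

theorem trQ_apply (σ : L ≃ₐ[F] L) (y : L) : trQ (F := F) σ y = Algebra.trace F L (y * σ y) := rfl

theorem polar_trQ {σ : L ≃ₐ[F] L} (hσ : σ * σ = 1) (u v : L) :
    polar (trQ (F := F) σ) u v = 2 * Algebra.trace F L (u * σ v) := by
  have h1 : Algebra.trace F L (v * σ u) = Algebra.trace F L (u * σ v) := by
    rw [← trace_alg σ (u * σ v), map_mul σ]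
    have h2 : σ (σ v) = v := by
      rw [← AlgEquiv.mul_apply, hσ]
      rfl
    rw [h2, mul_comm]
  rw [polar, trQ_apply, trQ_apply, trQ_apply, map_add σ, add_mul, mul_add, mul_add, map_add, map_add, map_add, h1]
  ring

theorem nondeg_trQ (h2 : (2 : F) ≠ 0) {σ : L ≃ₐ[F] L} (hσ : σ * σ = 1) : Nondeg (trQ (F := F) σ) := by
  have hfd : FiniteDimensional F L := Module.Finite.of_finite
  intro u hu
  apply trace_nondeg (F := F)
  intro y
  have h1 := hu (σ.symm y)
  rw [polar_trQ hσ, σ.apply_symm_apply] at h1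
  exact (mul_eq_zero.1 h1).resolve_left h2

theorem mulE_apply (ζ : Lˣ) (v : L) : mulE F L ζ v = (ζ : L) * v := rfl

theorem mulE_pow (ζ : Lˣ) (n : ℕ) : mulE F L ζ ^ n = mulE F L (ζ ^ n) := (map_pow (mulE F L) ζ n).symm

/-- the block of minus type -/
theorem blk_minus (h2 : (2 : F) ≠ 0) {p m : ℕ} [hp : Fact p.Prime] (hm : 0 < m) (hL : finrank F L = 2 * m)
    {ζ : Lˣ} (hζ : orderOf ζ = p) (hdvd : p ∣ Nat.card F ^ m + 1) : ∃ σ : L ≃ₐ[F] L,
    Blk p (trQ (F := F) σ) (mulE F L ζ) := by
  have hfd : FiniteDimensional F L := Module.Finite.of_finite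
  obtain ⟨φ, hφ, hφn, hφall, hφd⟩ := exists_frob F L
  have hφk : ∀ (k : ℕ) (y : L), (φ ^ k) y = y ^ (Nat.card F ^ k) := by
    intro k
    induction k with
    | zero => intro y; simp
    | succ k ih =>
      intro y
      rw [pow_succ', AlgEquiv.mul_apply, ih, hφ, ← pow_mul, ← pow_succ]
  have hσ2 : φ ^ m * φ ^ m = 1 := by rw [← pow_add, ← two_mul, ← hL, hφn]
  have hmem : ∀ τ : L ≃ₐ[F] L, τ.toLinearEquiv ∈ O (trQ (F := F) (φ ^ m)) := by
    intro τ y
    obtain ⟨k, rfl⟩ := hφall τ
    rw [trQ_apply, trQ_apply]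
    have h1 : (φ ^ m) ((φ ^ k) y) = (φ ^ k) ((φ ^ m) y) := by
      rw [← AlgEquiv.mul_apply, ← AlgEquiv.mul_apply, ← pow_add, ← pow_add, add_comm]
    change Algebra.trace F L ((φ ^ k) y * (φ ^ m) ((φ ^ k) y)) = _
    rw [h1, ← map_mul, trace_alg]
  have hunit : (ζ : L) * (φ ^ m) (ζ : L) = 1 := by
    rw [hφk, ← pow_succ', ← Units.val_pow_eq_pow_val]
    have h1 : ζ ^ (Nat.card F ^ m + 1) = 1 := orderOf_dvd_iff_pow_eq_one.1 (by rw [hζ]; exact hdvd)
    rw [h1, Units.val_one]
  refine ⟨φ ^ m, nondeg_trQ h2 hσ2, ?_, ?_, ?_, ?_, ?_⟩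
  · intro y
    rw [mulE_apply, trQ_apply, trQ_apply, map_mul (φ ^ m)]
    congr 1
    linear_combination (y * (φ ^ m) y) * hunit
  · rw [mulE_pow, ← hζ, pow_orderOf_eq_one, map_one]
  · intro v hv
    rw [mulE_apply] at hv
    have h1 : ((ζ : L) - 1) * v = 0 := by linear_combination hv
    refine (mul_eq_zero.1 h1).resolve_left fun h3 => ?_
    have h4 : ζ = 1 := Units.ext (sub_eq_zero.1 h3)
    rw [h4, orderOf_one] at hζ
    exact hp.out.one_lt.ne hζ
  · intro i ψ hψ hψx
    have h1 : IsConjRoot F (ζ : L) ((ζ : L) ^ i) := conjRoot_of_semi hψ (fun y => by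
      have h3 := hψx y
      rw [mulE_pow, mulE_apply, mulE_apply, Units.val_pow_eq_pow_val] at h3
      exact h3)
    obtain ⟨τ, hτ⟩ := h1.exists_algEquiv
    -- `τ (ζ ^ i) = ζ`
    have hτ' : τ.symm (ζ : L) = (ζ : L) ^ i := τ.symm_apply_eq.2 hτ.symm
    obtain ⟨k, hk⟩ := hφall τ.symm
    refine ⟨τ.symm.toLinearEquiv, hmem _, ?_, ?_⟩
    · rw [mul_inv_eq_iff_eq_mul]
      ext v
      rw [mulE_pow]
      change τ.symm ((ζ : L) * v) = ((ζ ^ i : Lˣ) : L) * τ.symm v
      rw [map_mul, hτ', Units.val_pow_eq_pow_val]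
    · have hto : ∀ j : ℕ, (φ ^ j).toLinearEquiv = φ.toLinearEquiv ^ j := by
        intro j
        induction j with
        | zero => rfl
        | succ j ih => rw [pow_succ, pow_succ, ← ih]; rfl
      rcases Nat.even_or_odd k with ⟨j, hj⟩ | hodd
      · left
        refine ⟨(φ ^ j).toLinearEquiv, hmem _, ?_⟩
        rw [hk, hj, pow_add]
        rfl
      · right
        rw [hk, hto, map_pow, hφd, hL, ← pow_mul]
        exact Odd.neg_one_pow (Odd.mul (by exact (even_two_mul m).add_one) hodd)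
  · classical
    let _ : Fintype F := Fintype.ofFinite F
    have hF2 : ringChar F ≠ 2 := by
      intro h
      apply h2
      have h3 := ringChar.Nat.cast_ringChar (R := F)
      rw [h] at h3
      exact_mod_cast h3
    obtain ⟨a, ha⟩ := FiniteField.exists_nonsquare hF2
    have ha0 : a ≠ 0 := by
      rintro rfl
      exact ha ⟨0, by simp⟩
    have hq : 1 < Nat.card F := Finite.one_lt_card
    have hqm : 1 < Nat.card F ^ m := Nat.one_lt_pow hm.ne' hq
    have hcard : Nat.card Lˣ = (Nat.card F ^ m - 1) * (Nat.card F ^ m + 1) := by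
      rw [Nat.card_units, Module.natCard_eq_pow_finrank (K := F) (V := L), hL, mul_comm 2 m, pow_mul]
      obtain ⟨k, hk⟩ := Nat.exists_eq_add_of_le hqm.le
      rw [hk]
      have e : (1 + k) ^ 2 = k * (1 + k + 1) + 1 := by ring
      rw [e, Nat.add_sub_cancel, Nat.add_sub_cancel_left]
    obtain ⟨β, hβ⟩ := exists_pow_eq (G := Lˣ) (m := Nat.card F ^ m - 1) (k := Nat.card F ^ m + 1) (by omega) hcard
      (c := Units.map (algebraMap F L).toMonoidHom (Units.mk0 a ha0)) (by
        rw [← map_pow]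
        have h3 : (Units.mk0 a ha0) ^ (Nat.card F ^ m - 1) = 1 := by
          apply Units.ext
          rw [Units.val_pow_eq_pow_val, Units.val_mk0, Units.val_one]
          have h4 : a ^ (Nat.card F ^ m) = a := by
            rw [Nat.card_eq_fintype_card]
            exact FiniteField.pow_card_pow m a
          apply mul_left_cancel₀ ha0
          rw [← pow_succ', Nat.sub_add_cancel hqm.le, h4, mul_one]
        rw [h3, map_one])
    have hβ' : (β : L) * (φ ^ m) (β : L) = algebraMap F L a := by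
      rw [hφk, ← pow_succ', ← Units.val_pow_eq_pow_val, hβ]
      rfl
    refine ⟨mulE F L β, a, ha, fun v => ?_, ?_⟩
    · rw [mulE_apply, trQ_apply, trQ_apply, map_mul (φ ^ m)]
      have h3 : (β : L) * v * ((φ ^ m) (β : L) * (φ ^ m) v) = a • (v * (φ ^ m) v) := by
        rw [Algebra.smul_def]
        linear_combination (v * (φ ^ m) v) * hβ'
      rw [h3, map_smul, smul_eq_mul]
    · rw [← map_mul, ← map_mul, mul_comm]

end minus

end Cfsg.Agent.H35.KB
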