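import Cfsg.Agent.H35.KB.Plus
import Cfsg.Agent.H377.ToOmega
import Cfsg.Agent.H508.KB.Defs
import Cfsg.Agent.H649.Transport
import Cfsg.Agent.SigZeroU5.Lift
import Cfsg.Agent.AutOrth.Main
import Cfsg.Prelude.Def_LieTypeChar

/-!
# `p ≤ k(B₀)` for `PΩ_{2m+1}(q)` in cross characteristic, noncyclic Sylow subgroups (S4822, KB4, helper35)
-/

set_option autoImplicit false
set_option linter.unusedSectionVars false

namespace Cfsg.Agent.H35.KB

open Cfsg QuadraticMap Module Cfsg.Agent.LieClassical.OrthCore Cfsg.Agent.LieClassical.OrthTrans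
open Cfsg.Agent.ClassicalGeometry.OrthAut1 (P)
open Cfsg.Agent.H160.QSpin
open Cfsg.Agent.H734.KB (mulE)
open Cfsg.Agent.H508.KB (kB)
open Cfsg.Agent.LieClassical.OrthFinite (good_of_finite)
open Cfsg.Agent.LieClassical.QuadForms (oddForm coe_oddForm)

universe u v w

/-- the dimension of a block -/
noncomputable def bd (p q : ℕ) : ℕ := if Even (orderOf (q : ZMod p)) then orderOf (q : ZMod p) else 2 * orderOf (q : ZMod p)

section

variable {F : Type} [Field F] [Fintype F]

/-- **existence of a block** -/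
theorem exists_blk (h2 : (2 : F) ≠ 0) {p : ℕ} [hp : Fact p.Prime] (hpF : (p : F) ≠ 0) :
    ∃ (B : Type) (_ : AddCommGroup B) (_ : Module F B) (_ : Finite B) (QB : QuadraticForm F B) (x : B ≃ₗ[F] B),
      finrank F B = bd p (Fintype.card F) ∧ Blk p QB x := by
  obtain ⟨r, _⟩ := CharP.exists F
  have : Fact r.Prime := ⟨CharP.char_is_prime F r⟩
  obtain ⟨d, hd⟩ : ∃ d, d = orderOf (Fintype.card F : ZMod p) := ⟨_, rfl⟩
  have hdpos : 0 < d := by
    rw [hd]
    exact Cfsg.Agent.H951.ord_pos (F := F) hpF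
  have : NeZero d := ⟨hdpos.ne'⟩
  let L := FiniteField.Extension F r d
  have hLc : Nat.card L = Nat.card F ^ d := FiniteField.natCard_extension F r d
  have hLf : finrank F L = d := FiniteField.finrank_extension F r d
  have hLfin : Finite L := Nat.finite_of_card_ne_zero (by rw [hLc]; exact pow_ne_zero _ Nat.card_pos.ne')
  have hq1 : 1 ≤ Nat.card F := Nat.card_pos
  have hqd : ((Nat.card F : ℕ) : ZMod p) ^ d = 1 := by
    rw [Nat.card_eq_fintype_card, hd, pow_orderOf_eq_one]
  have hdvd : p ∣ Nat.card Lˣ := by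
    rw [Nat.card_units, hLc, ← ZMod.natCast_eq_zero_iff, Nat.cast_sub (Nat.one_le_pow _ _ hq1), Nat.cast_pow, hqd,
      Nat.cast_one, sub_self]
  obtain ⟨ζ, hζ⟩ := exists_prime_orderOf_dvd_card' p hdvd
  rcases Nat.even_or_odd d with ⟨m, hm⟩ | hodd
  · have hm2 : d = 2 * m := by omega
    have hmpos : 0 < m := by omega
    have hpm : p ∣ Nat.card F ^ m + 1 := by
      rw [← ZMod.natCast_eq_zero_iff, Nat.cast_add, Nat.cast_pow, Nat.cast_one]
      have h1 : (((Nat.card F : ℕ) : ZMod p) ^ m - 1) * (((Nat.card F : ℕ) : ZMod p) ^ m + 1) = 0 := by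
        have h3 : ((Nat.card F : ℕ) : ZMod p) ^ m * ((Nat.card F : ℕ) : ZMod p) ^ m = 1 := by
          rw [← pow_add, ← hm, hqd]
        linear_combination h3
      refine (mul_eq_zero.1 h1).resolve_left fun h3 => ?_
      have h4 : orderOf (Fintype.card F : ZMod p) ∣ m := by
        apply orderOf_dvd_of_pow_eq_one
        rw [← Nat.card_eq_fintype_card]
        exact sub_eq_zero.1 h3
      rw [← hd] at h4
      have := Nat.le_of_dvd hmpos h4
      omega
    obtain ⟨σ, hσ⟩ := blk_minus (F := F) (L := L) h2 hmpos (hLf.trans hm2) hζ hpm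
    refine ⟨L, inferInstance, inferInstance, hLfin, _, _, ?_, hσ⟩
    rw [hLf, bd, ← hd, if_pos ⟨m, hm⟩]
  · refine ⟨L × L, inferInstance, inferInstance, inferInstance, _, _, ?_,
      blk_plus (F := F) (L := L) h2 hodd hLf hζ⟩
    have hfd : FiniteDimensional F L := Module.Finite.of_finite
    rw [Module.finrank_prod, hLf, bd, ← hd, if_neg (Nat.not_even_iff_odd.2 hodd), two_mul]

theorem bd_even (p q : ℕ) : Even (bd p q) := by
  rw [bd]
  split_ifs with h
  · exact h
  · exact even_two_mul _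

/-- a cyclic Sylow subgroup if the dimension is small -/
theorem exists_cyclic {V : Type*} [AddCommGroup V] [Module F V] [Finite V] [FiniteDimensional F V]
    {Q : QuadraticForm F V} (hG : Good Q) {p : ℕ} [hp : Fact p.Prime] (hp2 : p ≠ 2) (hpF : (p : F) ≠ 0)
    (hd : finrank F V < 2 * bd p (Fintype.card F)) (S : Sylow p (P Q)) : IsCyclic (S : Subgroup (P Q)) := by
  have hfinE : Finite ↥(E Q) := Cfsg.Agent.H200.RowOrth.finite_E
  obtain ⟨P₁, hP₁, hmap, -⟩ := Cfsg.Agent.SigZeroU5.exists_lift (Subgroup.center ↥(E Q)) le_rfl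
    (Cfsg.Agent.H200.RowOrth.not_dvd_center hG hp2) S.2
  have h1 : IsCyclic ↥P₁ := isCyclic_isom (Q := Q) hG.nondeg hp2 hpF rfl hd hP₁
    ((E Q).subtype.comp P₁.subtype) (Subtype.val_injective.comp Subtype.val_injective) (fun γ => E_le_O γ.1.2)
  rw [← hmap]
  exact isCyclic_of_surjective _ (MonoidHom.subgroupMap_surjective (QuotientGroup.mk' (Subgroup.center ↥(E Q))) P₁)

/-- **`p ≤ k(B₀)` for `P Q`, `Q` of odd dimension** -/
theorem kb_odd_P {p : ℕ} [hp : Fact p.Prime] {M : Ideal AlgInt} (hM : IsPModular p M) (hp2 : p ≠ 2)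
    (h2 : (2 : F) ≠ 0) (hpF : (p : F) ≠ 0) {m : ℕ} (hm : 2 ≤ m)
    (hnc : ∀ S : Sylow p (P (oddForm m F)), ¬ IsCyclic (S : Subgroup (P (oddForm m F)))) :
    p ≤ Nat.card (principalBlock M (P (oddForm m F))) := by
  have hG0 : Good (oddForm m F) := Cfsg.Agent.AutOrth.Main.good_odd hm h2
  have hfr : ∀ k : ℕ, finrank F (Unit ⊕ (Fin k ⊕ Fin k) → F) = 2 * k + 1 := by
    intro k
    rw [Module.finrank_fintype_fun_eq_card]
    simp
    omega
  obtain ⟨c', hc'⟩ := bd_even p (Fintype.card F)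
  have hdim : 2 * bd p (Fintype.card F) ≤ 2 * m + 1 := by
    by_contra hlt
    push Not at hlt
    obtain ⟨S⟩ : Nonempty (Sylow p (P (oddForm m F))) := inferInstance
    exact hnc S (exists_cyclic hG0 hp2 hpF (by rw [hfr]; exact hlt) S)
  obtain ⟨B, iB1, iB2, iB3, QB, x, hBf, hB⟩ := exists_blk (F := F) h2 (p := p) hpF
  have hcpos : 0 < c' := by
    by_contra h0
    have h3 : bd p (Fintype.card F) = 0 := by omega
    have h4 : 0 < orderOf (Fintype.card F : ZMod p) := Cfsg.Agent.H951.ord_pos (F := F) hpF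
    rw [bd] at h3
    split_ifs at h3 <;> omega
  have hBf' : finrank F B = 2 * c' := by omega
  have hfdB : FiniteDimensional F B := Module.Finite.of_finite
  have : Nontrivial B := by
    have h3 : 0 < finrank F B := by omega
    exact Module.nontrivial_of_finrank_pos h3
  have hcm : c' * 2 ≤ m := by omega
  have hw : 2 ≤ m / c' := by
    rw [Nat.le_div_iff_mul_le hcpos]
    omega
  have hmod := Nat.div_add_mod m c'
  have hlt := Nat.mod_lt m hcpos
  obtain ⟨w, hwe⟩ : ∃ w, m / c' = w + 2 := ⟨m / c' - 2, by omega⟩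
  let QC : QuadraticForm F (Unit ⊕ (Fin (m % c') ⊕ Fin (m % c')) → F) :=
    Cfsg.Agent.LieClassical.OrthForms.oddForm (m % c') F
  have hQC : Nondeg QC := Cfsg.Agent.LieClassical.OrthForms.nondeg_oddForm _ _ h2
  have hv₀ : QC (Pi.single (Sum.inl ()) 1) ≠ 0 := by
    have h3 : QC (Pi.single (Sum.inl ()) 1) = 1 := by
      change (Cfsg.Agent.LieClassical.OrthForms.oddForm (m % c') F) _ = 1
      rw [Cfsg.Agent.LieClassical.OrthForms.coe_oddForm, quadFormOdd]
      simp
    rw [h3]
    exact one_ne_zero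
  have hfW : finrank F (B × (Unit ⊕ (Fin (m % c') ⊕ Fin (m % c')) → F)) = 2 * c' + (2 * (m % c') + 1) := by
    rw [Module.finrank_prod, hfr, hBf']
  have hfV : finrank F ((Fin (w + 1) → B) × (B × (Unit ⊕ (Fin (m % c') ⊕ Fin (m % c')) → F))) = 2 * m + 1 := by
    rw [Module.finrank_prod, hfW, Module.finrank_pi_fintype, Finset.sum_const, Finset.card_univ, Fintype.card_fin, hBf',
      smul_eq_mul]
    rw [hwe] at hmod
    generalize m % c' = k at hmod hlt ⊢
    nlinarith
  have hW := nondeg_prod hB.nondeg hQC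
  have hQW : Nondeg (QW (Fin (w + 1)) QB QC) := nondeg_prod (nondeg_piQ hB.nondeg) hW
  have hG : Good (QW (Fin (w + 1)) QB QC) := good_of_finite hQW (by rw [hfV]; omega)
  have hmain := core (ι := Fin (w + 1)) (M := M) hM hp2 h2 hB hQC hv₀ hG fun R hR =>
    isCyclic_isom (Γ := ↥R) hW hp2 hpF (c := bd p (Fintype.card F)) rfl (by rw [hfW]; omega) hR
      ((O (QB.prod QC)).subtype.comp R.subtype) (Subtype.val_injective.comp Subtype.val_injective) (fun γ => γ.1.2)
  obtain ⟨a, e, ha, he⟩ := Cfsg.Agent.H377.exists_similar_odd hfV (QW (Fin (w + 1)) QB QC) hQW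
  have he' : ∀ v, QW (Fin (w + 1)) QB QC (e v) = a * oddForm m F v := by
    intro v
    rw [← Cfsg.Agent.AutOrth.Main.oddForm_eq]
    exact he v
  have e2 : P (oddForm m F) ≃* P (QW (Fin (w + 1)) QB QC) := Cfsg.Agent.H208.SimForm.sP ha he'
  have h3 : Nat.card (principalBlock M (P (oddForm m F))) =
      Nat.card (principalBlock M (P (QW (Fin (w + 1)) QB QC))) := by
    rw [← Cfsg.Agent.H649.blkMap_principalBlock e2]
    exact (Nat.card_image_of_injective (Cfsg.Agent.H649.irrMap_injective e2) _).symm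
  rw [h3]
  exact hmain

end

/-- **KB4** -/
theorem kb_omegaOdd {p : ℕ} [Fact p.Prime] {M : Ideal AlgInt} {S : Type u} [Group S] [Finite S] {r : ℕ}
    [hr : Fact r.Prime] (hrp : r ≠ p) (h11 : 11 ≤ p) (hM : IsPModular p M)
    (h : IsPOmegaOddChar r S) (hP : ∀ P : Sylow p S, ¬ IsCyclic (P : Subgroup S)) : p ≤ kB M S := by
  obtain ⟨F, _, _, _, m, hm, hodd, ⟨e⟩⟩ := h
  have hpp : p.Prime := Fact.out
  have h2 : (2 : F) ≠ 0 := by
    intro h0
    have h3 := (CharP.cast_eq_zero_iff F r 2).1 (by exact_mod_cast h0)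
    have h4 : r = 2 := (Nat.prime_dvd_prime_iff_eq hr.out Nat.prime_two).1 h3
    subst h4
    obtain ⟨n, -, hn⟩ := FiniteField.card F 2
    rw [hn] at hodd
    have h5 := Nat.odd_iff.1 hodd
    have h6 : 2 ∣ 2 ^ (n : ℕ) := dvd_pow_self 2 n.ne_zero
    omega
  have hpF : (p : F) ≠ 0 := by
    intro h0
    rw [CharP.cast_eq_zero_iff F r] at h0
    exact hrp ((Nat.prime_dvd_prime_iff_eq hr.out hpp).1 h0)
  have hG0 : Good (oddForm m F) := Cfsg.Agent.AutOrth.Main.good_odd (by omega) h2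
  have e0 : POmega F ⇑(oddForm m F) ≃* P (oddForm m F) := Cfsg.Agent.AutOrth.Main.pe hG0
  rw [coe_oddForm] at e0
  have e1 : S ≃* P (oddForm m F) := e.trans e0
  have hfinE : Finite ↥(E (oddForm m F)) := Cfsg.Agent.H200.RowOrth.finite_E
  have h3 : kB M S = Nat.card (principalBlock M (P (oddForm m F))) := by
    rw [kB, ← Cfsg.Agent.H649.blkMap_principalBlock e1]
    exact (Nat.card_image_of_injective (Cfsg.Agent.H649.irrMap_injective e1) _).symm
  rw [h3]
  refine kb_odd_P hM (by omega) h2 hpF (by omega) fun T hT => ?_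
  refine hP (T.comapOfInjective e1.toMonoidHom e1.injective (by
    rw [MonoidHom.range_eq_top.2 e1.surjective]; exact le_top)) ?_
  have h4 : (↑(T.comapOfInjective e1.toMonoidHom e1.injective (by
    rw [MonoidHom.range_eq_top.2 e1.surjective]; exact le_top)) : Subgroup S) = (T : Subgroup _).comap e1.toMonoidHom := rfl
  rw [h4]
  exact isCyclic_of_injective ((e1.toMonoidHom).subgroupComap (T : Subgroup (P (oddForm m F)))) fun a b hab =>
    Subtype.ext (e1.injective (congrArg Subtype.val hab))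

end Cfsg.Agent.H35.KB
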