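import Cfsg.Agent.H35.KB.Fld

/-!
# The block of plus type (S4822, helper35)

`L / F` of odd degree `d`: the form `Tr (y z)` on `L × L`, the isometry `(ζ y, ζ⁻¹ z)`.
-/

set_option autoImplicit false
set_option linter.unusedSectionVars false

namespace Cfsg.Agent.H35.KB

open Cfsg QuadraticMap Module Cfsg.Agent.LieClassical.OrthCore Cfsg.Agent.LieClassical.OrthTrans
open Cfsg.Agent.H160.QSpin
open Cfsg.Agent.H734.KB (conjRoot_of_semi mulE)
open Cfsg.Agent.H749 (exists_pow_eq trace_nondeg)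

universe u v w

section plus

variable {F : Type u} [Field F] {L : Type v} [Field L] [Algebra F L] [Finite L]

variable (F L) in
/-- the form `Tr (y z)` -/
noncomputable def hypT : QuadraticForm F (L × L) :=
  LinearMap.BilinMap.toQuadraticMap (LinearMap.mk₂ F (fun u v : L × L => Algebra.trace F L (u.1 * v.2))
    (fun u u' v => by rw [Prod.fst_add, add_mul, map_add])
    (fun c u v => by rw [Prod.smul_fst, smul_mul_assoc, map_smul])
    (fun u v v' => by rw [Prod.snd_add, mul_add, map_add])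
    (fun c u v => by rw [Prod.smul_snd, mul_smul_comm, map_smul]))

theorem hypT_apply (y : L × L) : hypT F L y = Algebra.trace F L (y.1 * y.2) := rfl

theorem polar_hypT (u v : L × L) : polar (hypT F L) u v = Algebra.trace F L (u.1 * v.2 + v.1 * u.2) := by
  rw [polar, hypT_apply, hypT_apply, hypT_apply, ← map_sub, ← map_sub, Prod.fst_add, Prod.snd_add]
  congr 1
  ring

theorem nondeg_hypT [Finite F] : Nondeg (hypT F L) := by
  intro u hu
  refine Prod.ext ?_ ?_
  · apply trace_nondeg (F := F)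
    intro y
    have h1 := hu (0, y)
    rw [polar_hypT, zero_mul, add_zero] at h1
    exact h1
  · apply trace_nondeg (F := F)
    intro y
    have h1 := hu (y, 0)
    rw [polar_hypT, mul_zero, zero_add, mul_comm] at h1
    exact h1

/-- the swap has determinant `(-1) ^ d` -/
theorem det_swap [Finite F] (h2 : (2 : F) ≠ 0) :
    LinearEquiv.det (LinearEquiv.prodComm F L L) = (-1) ^ finrank F L := by
  have hfd : FiniteDimensional F L := Module.Finite.of_finite
  let e : (L × L) ≃ₗ[F] (L × L) :=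
    { toFun := fun v => (v.1 + v.2, v.1 - v.2)
      invFun := fun v => ((2 : F)⁻¹ • (v.1 + v.2), (2 : F)⁻¹ • (v.1 - v.2))
      map_add' := fun v w => Prod.ext (by simp only [Prod.fst_add, Prod.snd_add]; ring)
        (by simp only [Prod.fst_add, Prod.snd_add]; ring)
      map_smul' := fun c v => Prod.ext (by simp [smul_add]) (by simp [smul_sub])
      left_inv := fun v => by
        refine Prod.ext ?_ ?_
        · change (2 : F)⁻¹ • (v.1 + v.2 + (v.1 - v.2)) = v.1
          have h3 : v.1 + v.2 + (v.1 - v.2) = (2 : F) • v.1 := by rw [two_smul]; ring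
          rw [h3, smul_smul, inv_mul_cancel₀ h2, one_smul]
        · change (2 : F)⁻¹ • (v.1 + v.2 - (v.1 - v.2)) = v.2
          have h3 : v.1 + v.2 - (v.1 - v.2) = (2 : F) • v.2 := by rw [two_smul]; ring
          rw [h3, smul_smul, inv_mul_cancel₀ h2, one_smul]
      right_inv := fun v => by
        refine Prod.ext ?_ ?_
        · change (2 : F)⁻¹ • (v.1 + v.2) + (2 : F)⁻¹ • (v.1 - v.2) = v.1
          have h3 : (v.1 + v.2) + (v.1 - v.2) = (2 : F) • v.1 := by rw [two_smul]; ring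
          rw [← smul_add, h3, smul_smul, inv_mul_cancel₀ h2, one_smul]
        · change (2 : F)⁻¹ • (v.1 + v.2) - (2 : F)⁻¹ • (v.1 - v.2) = v.2
          have h3 : (v.1 + v.2) - (v.1 - v.2) = (2 : F) • v.2 := by rw [two_smul]; ring
          rw [← smul_sub, h3, smul_smul, inv_mul_cancel₀ h2, one_smul] }
  have h1 : LinearEquiv.prodComm F L L = e * pr 1 (LinearEquiv.neg F) * e⁻¹ := by
    rw [eq_mul_inv_iff_mul_eq]
    ext1 v
    refine Prod.ext ?_ ?_
    · change v.1 - v.2 = v.1 + -v.2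
      ring
    · change v.1 + v.2 = v.1 - -v.2
      ring
  have h3 : LinearEquiv.det (LinearEquiv.neg F : L ≃ₗ[F] L) = (-1) ^ finrank F L := by
    apply Units.ext
    rw [LinearEquiv.coe_det]
    have h4 : ((LinearEquiv.neg F : L ≃ₗ[F] L) : L →ₗ[F] L) = (-1 : F) • LinearMap.id := by
      ext v
      change -v = (-1 : F) • v
      rw [neg_smul, one_smul]
    rw [h4, LinearMap.det_smul, LinearMap.det_id, mul_one]
    simp
  rw [h1, map_mul, map_mul, map_inv, mul_comm (LinearEquiv.det e), mul_inv_cancel_right, det_pr, map_one, one_mul, h3]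

/-- the block of plus type -/
theorem blk_plus [Finite F] (h2 : (2 : F) ≠ 0) {p d : ℕ} [hp : Fact p.Prime] (hd : Odd d) (hL : finrank F L = d)
    {ζ : Lˣ} (hζ : orderOf ζ = p) : Blk p (hypT F L) (pr (mulE F L ζ) (mulE F L ζ⁻¹)) := by
  have hfd : FiniteDimensional F L := Module.Finite.of_finite
  obtain ⟨φ, hφ, hφn, hφall, -⟩ := exists_frob F L
  have hxp : ∀ n : ℕ, pr (mulE F L ζ) (mulE F L ζ⁻¹) ^ n = pr (mulE F L (ζ ^ n)) (mulE F L (ζ⁻¹ ^ n)) := by
    intro n
    rw [pr_pow, mulE_pow, mulE_pow]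
  have hζ1 : ζ ≠ 1 := by
    rintro rfl
    rw [orderOf_one] at hζ
    exact hp.out.one_lt.ne hζ
  have hmemτ : ∀ τ : L ≃ₐ[F] L, pr τ.toLinearEquiv τ.toLinearEquiv ∈ O (hypT F L) := by
    intro τ y
    rw [hypT_apply, hypT_apply]
    change Algebra.trace F L (τ y.1 * τ y.2) = _
    rw [← map_mul τ, trace_alg]
  have hswO : LinearEquiv.prodComm F L L ∈ O (hypT F L) := by
    intro y
    rw [hypT_apply, hypT_apply]
    change Algebra.trace F L (y.2 * y.1) = _
    rw [mul_comm]
  have hone : ∀ τ : L ≃ₐ[F] L, τ ^ d = 1 := by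
    intro τ
    obtain ⟨k, rfl⟩ := hφall τ
    rw [← pow_mul, mul_comm, pow_mul, ← hL, hφn, one_pow]
  have hto : ∀ (τ : L ≃ₐ[F] L) (j : ℕ), (τ ^ j).toLinearEquiv = τ.toLinearEquiv ^ j := by
    intro τ j
    induction j with
    | zero => rfl
    | succ j ih => rw [pow_succ, pow_succ, ← ih]; rfl
  have hdet : ∀ τ : L ≃ₐ[F] L, LinearEquiv.det (pr τ.toLinearEquiv τ.toLinearEquiv) = 1 := by
    intro τ
    refine eq_one_of_odd hd (det_sq nondeg_hypT (hmemτ τ)) ?_
    rw [← map_pow, pr_pow, ← hto, hone]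
    exact map_one _
  refine ⟨nondeg_hypT, ?_, ?_, ?_, ?_, ?_⟩
  · intro y
    rw [hypT_apply, hypT_apply]
    change Algebra.trace F L ((ζ : L) * y.1 * (((ζ⁻¹ : Lˣ) : L) * y.2)) = _
    congr 1
    have h3 : (ζ : L) * ((ζ⁻¹ : Lˣ) : L) = 1 := Units.mul_inv ζ
    linear_combination (y.1 * y.2) * h3
  · rw [hxp, inv_pow, ← hζ, pow_orderOf_eq_one, inv_one, map_one]
    rfl
  · intro v hv
    have h3 : ∀ (η : Lˣ), η ≠ 1 → ∀ y : L, (η : L) * y = y → y = 0 := by
      intro η hη y hy
      have h1 : ((η : L) - 1) * y = 0 := by linear_combination hy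
      refine (mul_eq_zero.1 h1).resolve_left fun h3 => hη (Units.ext (sub_eq_zero.1 h3))
    refine Prod.ext (h3 ζ hζ1 v.1 (congrArg Prod.fst hv)) (h3 ζ⁻¹ (fun h => hζ1 (inv_eq_one.1 h)) v.2
      (congrArg Prod.snd hv))
  · intro i ψ hψ hψx
    -- it suffices to find an automorphism
    have key : (∃ τ : L ≃ₐ[F] L, τ (ζ : L) = (ζ : L) ^ i) ∨ (∃ τ : L ≃ₐ[F] L, τ (ζ : L) = ((ζ⁻¹ : Lˣ) : L) ^ i) := by
      have hroot : ∀ (x y : L) (f : L →ₗ[F] L), f ≠ 0 → (∀ v, f (x * v) = y * f v) → ∃ τ : L ≃ₐ[F] L, τ x = y := by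
        intro x y f hf hfx
        obtain ⟨τ, hτ⟩ := (conjRoot_of_semi hf hfx).exists_algEquiv
        exact ⟨τ.symm, τ.symm_apply_eq.2 hτ.symm⟩
      have hinv : ∀ τ : L ≃ₐ[F] L, τ (((ζ⁻¹ : Lˣ)) : L) * τ (ζ : L) = 1 := by
        intro τ
        rw [← map_mul τ, Units.inv_mul, map_one]
      have hpi : ((ζ⁻¹ : Lˣ) : L) ^ i * (ζ : L) ^ i = 1 := by
        rw [← mul_pow, Units.inv_mul, one_pow]
      have hnz : ∀ j : ℕ, (ζ : L) ^ j ≠ 0 := fun j => pow_ne_zero _ ζ.ne_zero
      have hψx' : ∀ v : L × L, ψ ((ζ : L) * v.1, ((ζ⁻¹ : Lˣ) : L) * v.2) =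
          ((ζ : L) ^ i * (ψ v).1, ((ζ⁻¹ : Lˣ) : L) ^ i * (ψ v).2) := by
        intro v
        have h3 := hψx v
        rw [hxp] at h3
        refine h3.trans ?_
        refine Prod.ext ?_ ?_
        · change ((ζ ^ i : Lˣ) : L) * (ψ v).1 = _
          rw [Units.val_pow_eq_pow_val]
        · change ((ζ⁻¹ ^ i : Lˣ) : L) * (ψ v).2 = _
          rw [Units.val_pow_eq_pow_val]
      let f1 : L →ₗ[F] L := (LinearMap.fst F L L).comp (ψ.comp (LinearMap.inl F L L))
      let f2 : L →ₗ[F] L := (LinearMap.snd F L L).comp (ψ.comp (LinearMap.inl F L L))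
      let f3 : L →ₗ[F] L := (LinearMap.fst F L L).comp (ψ.comp (LinearMap.inr F L L))
      let f4 : L →ₗ[F] L := (LinearMap.snd F L L).comp (ψ.comp (LinearMap.inr F L L))
      have e1 : ∀ v, f1 ((ζ : L) * v) = (ζ : L) ^ i * f1 v := by
        intro v
        have h3 := congrArg Prod.fst (hψx' (v, 0))
        rw [mul_zero] at h3
        exact h3
      have e2 : ∀ v, f2 ((ζ : L) * v) = ((ζ⁻¹ : Lˣ) : L) ^ i * f2 v := by
        intro v
        have h3 := congrArg Prod.snd (hψx' (v, 0))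
        rw [mul_zero] at h3
        exact h3
      have e3 : ∀ v, f3 (((ζ⁻¹ : Lˣ) : L) * v) = (ζ : L) ^ i * f3 v := by
        intro v
        have h3 := congrArg Prod.fst (hψx' (0, v))
        rw [mul_zero] at h3
        exact h3
      have e4 : ∀ v, f4 (((ζ⁻¹ : Lˣ) : L) * v) = ((ζ⁻¹ : Lˣ) : L) ^ i * f4 v := by
        intro v
        have h3 := congrArg Prod.snd (hψx' (0, v))
        rw [mul_zero] at h3
        exact h3
      by_cases h1 : f1 = 0
      · by_cases h3 : f2 = 0
        · by_cases h4 : f3 = 0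
          · have h5 : f4 ≠ 0 := by
              intro h5
              apply hψ
              ext v
              · exact LinearMap.congr_fun h1 v
              · exact LinearMap.congr_fun h3 v
              · exact LinearMap.congr_fun h4 v
              · exact LinearMap.congr_fun h5 v
            obtain ⟨τ, hτ⟩ := hroot _ _ f4 h5 e4
            left
            refine ⟨τ, ?_⟩
            have h6 := hinv τ
            rw [hτ] at h6
            apply mul_left_cancel₀ (pow_ne_zero i (ζ⁻¹).ne_zero)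
            rw [h6, hpi]
          · obtain ⟨τ, hτ⟩ := hroot _ _ f3 h4 e3
            right
            refine ⟨τ, ?_⟩
            have h6 := hinv τ
            rw [hτ] at h6
            apply mul_left_cancel₀ (hnz i)
            rw [h6, mul_comm, hpi]
        · obtain ⟨τ, hτ⟩ := hroot _ _ f2 h3 e2
          exact Or.inr ⟨τ, hτ⟩
      · obtain ⟨τ, hτ⟩ := hroot _ _ f1 h1 e1
        exact Or.inl ⟨τ, hτ⟩
    rcases key with ⟨τ, hτ⟩ | ⟨τ, hτ⟩
    · have hτu : ∀ y : L, τ ((ζ : L) * y) = ((ζ ^ i : Lˣ) : L) * τ y := by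
        intro y
        rw [map_mul τ, hτ, Units.val_pow_eq_pow_val]
      have hτi : ∀ y : L, τ (((ζ⁻¹ : Lˣ) : L) * y) = ((ζ⁻¹ ^ i : Lˣ) : L) * τ y := by
        intro y
        rw [map_mul τ]
        congr 1
        have h6 : τ ((ζ⁻¹ : Lˣ) : L) * τ (ζ : L) = 1 := by rw [← map_mul τ, Units.inv_mul, map_one]
        apply mul_right_cancel₀ (b := τ (ζ : L)) (by rw [hτ]; exact pow_ne_zero _ ζ.ne_zero)
        rw [h6, hτ, Units.val_pow_eq_pow_val, ← mul_pow, Units.inv_mul, one_pow]
      refine ⟨pr τ.toLinearEquiv τ.toLinearEquiv, hmemτ τ, ?_, Or.inl ?_⟩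
      · rw [mul_inv_eq_iff_eq_mul, hxp]
        ext1 v
        exact Prod.ext (hτu v.1) (hτi v.2)
      · obtain ⟨k, hk⟩ := hd
        refine ⟨pr (τ ^ (k + 1)).toLinearEquiv (τ ^ (k + 1)).toLinearEquiv, hmemτ _, ?_⟩
        rw [← pr_mul, hto, ← pow_add]
        have h6 : k + 1 + (k + 1) = d + 1 := by omega
        have h7 : τ.toLinearEquiv ^ (k + 1 + (k + 1)) = τ.toLinearEquiv := by
          rw [h6, pow_succ, ← hto, hone]
          rfl
        rw [h7]
    · have hτu : ∀ y : L, τ ((ζ : L) * y) = ((ζ⁻¹ ^ i : Lˣ) : L) * τ y := by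
        intro y
        rw [map_mul τ, hτ, Units.val_pow_eq_pow_val]
      have hτi : ∀ y : L, τ (((ζ⁻¹ : Lˣ) : L) * y) = ((ζ ^ i : Lˣ) : L) * τ y := by
        intro y
        rw [map_mul τ]
        congr 1
        have h6 : τ ((ζ⁻¹ : Lˣ) : L) * τ (ζ : L) = 1 := by rw [← map_mul τ, Units.inv_mul, map_one]
        apply mul_right_cancel₀ (b := τ (ζ : L)) (by rw [hτ]; exact pow_ne_zero _ (ζ⁻¹).ne_zero)
        rw [h6, hτ, Units.val_pow_eq_pow_val, ← mul_pow, Units.mul_inv, one_pow]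
      refine ⟨LinearEquiv.prodComm F L L * pr τ.toLinearEquiv τ.toLinearEquiv, mul_mem hswO (hmemτ τ), ?_, Or.inr ?_⟩
      · rw [mul_inv_eq_iff_eq_mul, hxp]
        ext1 v
        exact Prod.ext (hτi v.2) (hτu v.1)
      · rw [map_mul, hdet, mul_one, det_swap h2, hL]
        exact hd.neg_one_pow
  · classical
    let _ : Fintype F := Fintype.ofFinite F
    have hF2 : ringChar F ≠ 2 := by
      intro h
      apply h2
      have h3 := ringChar.Nat.cast_ringChar (R := F)
      rw [h] at h3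
      exact_mod_cast h3
    obtain ⟨a, ha⟩ := FiniteField.exists_nonsquare hF2
    have ha0 : a ≠ 0 := by
      rintro rfl
      exact ha ⟨0, by simp⟩
    refine ⟨pr (LinearEquiv.smulOfNeZero F L a ha0) 1, a, ha, fun v => ?_, ?_⟩
    · rw [hypT_apply, hypT_apply]
      change Algebra.trace F L ((a • v.1) * v.2) = _
      rw [smul_mul_assoc, map_smul, smul_eq_mul]
    · rw [← pr_mul, ← pr_mul, one_mul, mul_one]
      congr 1
      ext v
      change a • ((ζ : L) * v) = (ζ : L) * (a • v)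
      rw [mul_smul_comm]

end plus

end Cfsg.Agent.H35.KB
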